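import Cfsg.Agent.McLC.InvPR

set_option autoImplicit false
set_option Elab.async false
set_option maxRecDepth 100000
set_option linter.all false

namespace Cfsg.Agent.McLC
open Cfsg.Agent.CGT

noncomputable def ql0_n0 : Net := Net.cons 64 0x74a654080000080 <|
  Net.cons 32 0xa44127440000000000a42080 <|
  Net.cons 16 0xecd40000c200000008e8000092f0 <|
  Net.cons 8 0xf0002800e200620000001200340018 <|
  Net.cons 4 0x80204080004080008000806000c0c <|
  Net.cons 2 0x200020022000002002200002002000 <|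
  Net.cons 1 0x5450540441101401054101554001141 <|
  Net.cons 2 0x31220021202003312032210320110330 <|
  Net.cons 4 0xa040600060f080600080a0d0308 <|
  Net.cons 8 0xff002a00e20009009800120034004c <|
  Net.cons 16 0x68dc0000c200000088f8000098c4 <|
  Net.cons 32 0xa44127440000000000a42080 <|
  Net.cons 64 0x74a654080000080 <|
  Net.nil
noncomputable def ql0_n2 : Net := Net.cons 64 0x65bee864500800a0 <|
  Net.cons 32 0x37081a080000000028b34460 <|
  Net.cons 16 0x7380000096000000408a00005416 <|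
  Net.cons 8 0x4001000d00084007000300040005c <|
  Net.cons 4 0x804080800080a000804000c000a <|
  Net.cons 2 0x200000002200020000202020000 <|
  Net.cons 1 0x11405450054001105041154404440010 <|
  Net.cons 2 0x10232030002230020000202201302 <|
  Net.cons 4 0x804080900080a080b040002000a <|
  Net.cons 8 0x4001000d00084007000bc0051005c <|
  Net.cons 16 0x73800000b6000000429a0000d416 <|
  Net.cons 32 0x373eda080000000028b34460 <|
  Net.cons 64 0x65bee864500800a0 <|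
  Net.nil
noncomputable def ql0_n3 : Net := Net.cons 64 0x928448b000000000 <|
  Net.cons 32 0xa08a2c6800000000186f4080 <|
  Net.cons 16 0xa18a000065c80000ff8400000c88 <|
  Net.cons 8 0x30003c004400500098004c00320090 <|
  Net.cons 4 0xc00000606000800020c0800 <|
  Net.cons 2 0x200000222200000 <|
  Net.cons 1 0x411400000051140004441445000 <|
  Net.cons 2 0x20001000010002201201200232020022 <|
  Net.cons 4 0x10a00070c05050602000d0806020004 <|
  Net.cons 8 0x3000bc00e4005000ba004c00300092 <|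
  Net.cons 16 0xa18a000065c80000bf8400004e82 <|
  Net.cons 32 0xb28a2c680000000050fd0680 <|
  Net.cons 64 0x928448b000000000 <|
  Net.nil
noncomputable def ql0_n4 : Net := Net.cons 64 0xee683b4d51b18cf0 <|
  Net.cons 32 0xdc47f4b4000000009be32182 <|
  Net.cons 16 0xd9a00000a54c0000b45400001fa8 <|
  Net.cons 8 0x62000400dc005c00e8005800ca0008 <|
  Net.cons 4 0xe060c0404080802040c02020a040002 <|
  Net.cons 2 0x202200000000000002000020200 <|
  Net.cons 1 0x41400451454051454050504115041110 <|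
  Net.cons 2 0x32032202310223133210002021001220 <|
  Net.cons 4 0x605080a0c0e070d020e020801050404 <|
  Net.cons 8 0xf900f000d2004d00f4005800c0003c <|
  Net.cons 16 0x15a50000c69c00003ef000006a26 <|
  Net.cons 32 0x34bdb83e000000008a6a5e82 <|
  Net.cons 64 0xeede027f2c1d82ae <|
  Net.nil
noncomputable def ql0_ns : List Net := [ql0_n0, Net.nil, ql0_n2, ql0_n3, ql0_n4]
noncomputable def ql0_R : List (List ℕ) := [[0, 0], [2, 2], [4, 4], [6, 6], [8, 8, 8], [6, 8, 6, 8], [4, 6, 4, 6, 4, 6], [4, 8, 4, 8, 4, 6, 4, 8, 4, 8, 4, 9], [2, 4, 2, 4], [2, 8, 2, 9], [0, 6, 0, 6, 0, 6, 0, 6], [8, 0, 9, 6, 0, 2, 6, 8, 0, 6], [6, 4, 0, 4, 6, 2, 9, 4, 0, 4, 8], [6, 0, 4, 9, 6, 0, 6, 8, 4, 0, 9], [8, 6, 0, 9, 0, 4, 0, 8, 0, 6, 9, 4]]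
noncomputable def ql0_S0 : List (List ℕ) := [[2], [4], [6], [8]]
noncomputable def ql0_E : Enum := ⟨ql0_ns, ql0_R, ql0_S0, [], 0⟩
theorem ql0_v : validAll (2 ^ 7) ql0_ns = true := by decide +kernel
theorem ql0_p0 : holdsB 7 ql0_ns ql0_R = true := by decide +kernel
theorem ql0_p : Holds (lp ql0_ns) ql0_R := holdsB_sound ql0_v ql0_p0
theorem ql0_f : allL ql0_E.Sub (fixN ql0_E.ns ql0_E.b0) = true := by decide +kernel
theorem ql0_r0 : ql0_E.run [2, 0, 18, 8, 26, 12, 34, 33, 38, 37, 2, 0, 18, 8, 26, 12, 34, 33, 38, 37, 2, 0, 18, 8, 26, 12, 34, 33, 38, 37, 2, 0, 18, 8, 16, 33, 20, 12, 24, 4120, 20, 12, 4136, 3, 7, 11, 15, 33, 4136, 20, 12, 24, 4140, 20524, 32, 36, 8228, 32, 36, 8228, 32, 40, 4140, 20524, 32, 36, 8228, 32, 41008, 33, 8244, 41012, 37, 16, 33, 20, 36, 32, 36, 8228, 32, 4120, 4140, 16428, 20524, 32, 36, 8228, 40, 8240, 8244, 8, 32, 40, 28, 8, 20508, 36892, 33, 45084, 37, 20536, 45112, 16, 33,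 36, 32, 36, 24, 4120, 4144, 8, 20528, 32, 36, 8228, 32, 36, 8228, 24, 28, 4124, 33, 8248, 0, 20536, 45112, 4136, 24, 44, 33, 20524, 4144, 8240, 8244, 8, 32, 4144, 8, 32, 16440, 0, 20536, 45112, 4120, 44, 33, 12332, 20524, 16, 33, 36, 32, 4136, 41008, 33, 8244, 12340, 37, 4120, 8240, 20528, 41008, 33, 8244, 8, 41012, 37, 16, 33, 20, 36, 8228, 32, 36, 8228, 4120, 20, 12, 40, 4136, 4140, 8240, 28, 4124, 33, 12316, 33, 28700, 33, 32796, 8, 56, 33, 4152, 12, 8248, 12344, 37, 45112, 4116, 33, 32, 36, 8228, 16, 33, 32, 24, 4120, 32, 36, 40, 44, 33, 4140, 20524, 32, 36, 32, 8240, 4148, 0, 8244, 8, 12340, 37, 20532, 32820, 8, 36916, 0, 41012, 37, 16, 33, 20, 32, 36, 8228, 4120, 40, 4144, 8, 8240, 41008, 33, 12340, 37, 36916, 16, 33, 20, 32, 36, 32, 8240, 8244, 8, 41012, 37, 8240, 28, 4124, 33, 8220, 12316, 33, 20508, 56, 33, 8248, 0, 12344, 37, 16440, 0, 20536, 45112, 16, 33, 20, 36, 8228, 32, 4120, 4116, 33,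 16, 33, 40, 44, 33, 4140, 12332, 12, 20524, 16, 33, 8240, 24624, 37, 41008, 33, 16, 33, 20, 4140, 20524, 4144, 8, 12336, 8] (1 <<< 0) (List.replicate 11 0) (Enum.done 120 [0, 2, 4, 6, 8]) = true := by decide +kernel
theorem ql0_fin {G : Type*} [Group G] {γ : ℕ → G} (hR : Holds (ext γ) ql0_R) {H : Subgroup G}
    (hS : ∀ u ∈ ql0_S0, ev (ext γ) u ∈ H) : ql0_E.Fin γ H 120 [0, 2, 4, 6, 8] :=
  have hy : ql0_E.Hyp γ H := Enum.hyp_of ql0_v hR ql0_p hS ql0_f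
  (Enum.fin_of_done hy (Enum.inv_init 11) ql0_r0)
noncomputable def ql1_n1 : Net := Net.cons 1 0x1 <|
  Net.nil
noncomputable def ql1_ns : List Net := [Net.nil, ql1_n1, Net.nil, Net.nil, Net.nil]
noncomputable def ql1_R : List (List ℕ) := [[2, 2], [4, 4], [6, 6], [8, 8, 8], [6, 8, 6, 8], [4, 6, 4, 6, 4, 6], [4, 8, 4, 8, 4, 6, 4, 8, 4, 8, 4, 9], [2, 4, 2, 4], [2, 8, 2, 9]]
noncomputable def ql1_S0 : List (List ℕ) := [[4], [6], [8]]
noncomputable def ql1_E : Enum := ⟨ql1_ns, ql1_R, ql1_S0, [], 0⟩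
theorem ql1_v : validAll (2 ^ 3) ql1_ns = true := by decide +kernel
theorem ql1_p0 : holdsB 3 ql1_ns ql1_R = true := by decide +kernel
theorem ql1_p : Holds (lp ql1_ns) ql1_R := holdsB_sound ql1_v ql1_p0
theorem ql1_f : allL ql1_E.Sub (fixN ql1_E.ns ql1_E.b0) = true := by decide +kernel
theorem ql1_r0 : ql1_E.run [10, 0, 3, 7, 11, 33, 4124, 4128, 33, 20504] (1 <<< 0) (List.replicate 11 0) (Enum.done 2 [2, 4, 6, 8]) = true := by decide +kernel
theorem ql1_fin {G : Type*} [Group G] {γ : ℕ → G} (hR : Holds (ext γ) ql1_R) {H : Subgroup G}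
    (hS : ∀ u ∈ ql1_S0, ev (ext γ) u ∈ H) : ql1_E.Fin γ H 2 [2, 4, 6, 8] :=
  have hy : ql1_E.Hyp γ H := Enum.hyp_of ql1_v hR ql1_p hS ql1_f
  (Enum.fin_of_done hy (Enum.inv_init 11) ql1_r0)
noncomputable def ql2_n2 : Net := Net.cons 16 0x6400 <|
  Net.cons 8 0xa00050 <|
  Net.cons 4 0x8080a <|
  Net.cons 2 0x22020002 <|
  Net.cons 1 0x44544011 <|
  Net.cons 2 0x22020220 <|
  Net.cons 4 0x8080901 <|
  Net.cons 8 0xa60050 <|
  Net.cons 16 0x6400 <|
  Net.nil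
noncomputable def ql2_n3 : Net := Net.cons 16 0x9e20 <|
  Net.cons 8 0x20004e <|
  Net.cons 4 0x20604 <|
  Net.cons 2 0x22000 <|
  Net.cons 1 0x14550 <|
  Net.cons 2 0x222032 <|
  Net.cons 4 0xa020604 <|
  Net.cons 8 0x34004e <|
  Net.cons 16 0x9e20 <|
  Net.nil
noncomputable def ql2_n4 : Net := Net.cons 16 0x8c30 <|
  Net.cons 8 0xf0002c <|
  Net.cons 4 0x4000c0a <|
  Net.cons 2 0x20002 <|
  Net.cons 1 0x45011104 <|
  Net.cons 2 0x30012132 <|
  Net.cons 4 0xd080a04 <|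
  Net.cons 8 0x7e0046 <|
  Net.cons 16 0x8e24 <|
  Net.nil
noncomputable def ql2_ns : List Net := [Net.nil, Net.nil, ql2_n2, ql2_n3, ql2_n4]
noncomputable def ql2_R : List (List ℕ) := [[4, 4], [6, 6], [8, 8, 8], [6, 8, 6, 8], [4, 6, 4, 6, 4, 6], [4, 8, 4, 8, 4, 6, 4, 8, 4, 8, 4, 9]]
noncomputable def ql2_S0 : List (List ℕ) := [[6], [8]]
noncomputable def ql2_E : Enum := ⟨ql2_ns, ql2_R, ql2_S0, [], 0⟩
theorem ql2_v : validAll (2 ^ 5) ql2_ns = true := by decide +kernel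
theorem ql2_p0 : holdsB 5 ql2_ns ql2_R = true := by decide +kernel
theorem ql2_p : Holds (lp ql2_ns) ql2_R := holdsB_sound ql2_v ql2_p0
theorem ql2_f : allL ql2_E.Sub (fixN ql2_E.ns ql2_E.b0) = true := by decide +kernel
theorem ql2_r0 : ql2_E.run [18, 0, 26, 4, 34, 33, 38, 37, 18, 0, 26, 4, 34, 33, 38, 37, 18, 0, 34, 33, 8, 33, 12, 4, 16, 3, 7, 33, 16, 20, 0, 8212, 0, 20500, 4, 28692, 33, 36884, 33, 45076, 37, 8, 33, 12, 16, 20] (1 <<< 0) (List.replicate 11 0) (Enum.done 28 [4, 6, 8]) = true := by decide +kernel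
theorem ql2_fin {G : Type*} [Group G] {γ : ℕ → G} (hR : Holds (ext γ) ql2_R) {H : Subgroup G}
    (hS : ∀ u ∈ ql2_S0, ev (ext γ) u ∈ H) : ql2_E.Fin γ H 28 [4, 6, 8] :=
  have hy : ql2_E.Hyp γ H := Enum.hyp_of ql2_v hR ql2_p hS ql2_f
  (Enum.fin_of_done hy (Enum.inv_init 11) ql2_r0)
noncomputable def ql3_n3 : Net := Net.cons 1 0x1 <|
  Net.nil
noncomputable def ql3_ns : List Net := [Net.nil, Net.nil, Net.nil, ql3_n3, Net.nil]
noncomputable def ql3_R : List (List ℕ) := [[6, 6], [8, 8, 8], [6, 8, 6, 8]]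
noncomputable def ql3_S0 : List (List ℕ) := [[8]]
noncomputable def ql3_E : Enum := ⟨ql3_ns, ql3_R, ql3_S0, [], 0⟩
theorem ql3_v : validAll (2 ^ 3) ql3_ns = true := by decide +kernel
theorem ql3_p0 : holdsB 3 ql3_ns ql3_R = true := by decide +kernel
theorem ql3_p : Holds (lp ql3_ns) ql3_R := holdsB_sound ql3_v ql3_p0
theorem ql3_f : allL ql3_E.Sub (fixN ql3_E.ns ql3_E.b0) = true := by decide +kernel
theorem ql3_r0 : ql3_E.run [26, 0, 3, 33, 4104, 33] (1 <<< 0) (List.replicate 11 0) (Enum.done 2 [6, 8]) = true := by decide +kernel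
theorem ql3_fin {G : Type*} [Group G] {γ : ℕ → G} (hR : Holds (ext γ) ql3_R) {H : Subgroup G}
    (hS : ∀ u ∈ ql3_S0, ev (ext γ) u ∈ H) : ql3_E.Fin γ H 2 [6, 8] :=
  have hy : ql3_E.Hyp γ H := Enum.hyp_of ql3_v hR ql3_p hS ql3_f
  (Enum.fin_of_done hy (Enum.inv_init 11) ql3_r0)
noncomputable def ql4_n4 : Net := Net.cons 2 0x2 <|
  Net.cons 1 0x4 <|
  Net.cons 2 0x3 <|
  Net.nil
noncomputable def ql4_ns : List Net := [Net.nil, Net.nil, Net.nil, Net.nil, ql4_n4]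
noncomputable def ql4_R : List (List ℕ) := [[8, 8, 8]]
noncomputable def ql4_S0 : List (List ℕ) := []
noncomputable def ql4_E : Enum := ⟨ql4_ns, ql4_R, ql4_S0, [], 0⟩
theorem ql4_v : validAll (2 ^ 3) ql4_ns = true := by decide +kernel
theorem ql4_p0 : holdsB 3 ql4_ns ql4_R = true := by decide +kernel
theorem ql4_p : Holds (lp ql4_ns) ql4_R := holdsB_sound ql4_v ql4_p0
theorem ql4_f : allL ql4_E.Sub (fixN ql4_E.ns ql4_E.b0) = true := by decide +kernel
theorem ql4_r0 : ql4_E.run [34, 33, 38, 37, 0, 33] (1 <<< 0) (List.replicate 11 0) (Enum.done 3 [8]) = true := by decide +kernel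
theorem ql4_fin {G : Type*} [Group G] {γ : ℕ → G} (hR : Holds (ext γ) ql4_R) {H : Subgroup G}
    (hS : ∀ u ∈ ql4_S0, ev (ext γ) u ∈ H) : ql4_E.Fin γ H 3 [8] :=
  have hy : ql4_E.Hyp γ H := Enum.hyp_of ql4_v hR ql4_p hS ql4_f
  (Enum.fin_of_done hy (Enum.inv_init 11) ql4_r0)
theorem qbd4 {G : Type*} [Group G] {γ : ℕ → G} (hR : Holds (ext γ) qRR) : Bd (gp γ [8]) 3 :=
  Bd.step (ql4_fin (hR.subR (by decide +kernel)) (wordsIn_sound γ (L := []) (by decide +kernel))) (Bd.gp_nil γ) (by norm_num)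
theorem qbd3 {G : Type*} [Group G] {γ : ℕ → G} (hR : Holds (ext γ) qRR) : Bd (gp γ [6, 8]) 6 :=
  Bd.step (ql3_fin (hR.subR (by decide +kernel)) (wordsIn_sound γ (L := [8]) (by decide +kernel))) (qbd4 hR) (by norm_num)
theorem qbd2 {G : Type*} [Group G] {γ : ℕ → G} (hR : Holds (ext γ) qRR) : Bd (gp γ [4, 6, 8]) 168 :=
  Bd.step (ql2_fin (hR.subR (by decide +kernel)) (wordsIn_sound γ (L := [6, 8]) (by decide +kernel))) (qbd3 hR) (by norm_num)
theorem qbd1 {G : Type*} [Group G] {γ : ℕ → G} (hR : Holds (ext γ) qRR) : Bd (gp γ [2, 4, 6, 8]) 336 :=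
  Bd.step (ql1_fin (hR.subR (by decide +kernel)) (wordsIn_sound γ (L := [4, 6, 8]) (by decide +kernel))) (qbd2 hR) (by norm_num)
theorem qbd0 {G : Type*} [Group G] {γ : ℕ → G} (hR : Holds (ext γ) qRR) : Bd (gp γ [0, 2, 4, 6, 8]) 40320 :=
  Bd.step (ql0_fin (hR.subR (by decide +kernel)) (wordsIn_sound γ (L := [2, 4, 6, 8]) (by decide +kernel))) (qbd1 hR) (by norm_num)

end Cfsg.Agent.McLC
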