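import Cfsg.Agent.McLC.InvX
import Cfsg.Agent.Inv.Cent2

set_option autoImplicit false
set_option Elab.async false
set_option maxRecDepth 100000
set_option linter.all false

namespace Cfsg.Agent.McLC
open Cfsg.Agent.CGT

open Cfsg.Agent.Inv

noncomputable def s_P : List (List ℕ × List ℕ) := [([], [1, 2, 3]), ([16], [4, 5, 6]), ([18], [7, 0, 8]), ([20], [9, 10, 0]), ([16, 16], [11, 12, 13]), ([18, 16], [14, 1, 15]), ([20, 16], [16, 17, 1]), ([16, 18], [18, 19, 20]), ([20, 18], [21, 22, 2]), ([16, 20], [13, 23, 24]), ([18, 20], [25, 3, 26]), ([16, 16, 16], [0, 27, 28]), ([18, 16, 16], [29, 4, 30]), ([20, 16, 16], [31, 32, 4]), ([16, 18, 16], [33, 34, 35]), ([20, 18, 16], [36, 37, 5]), ([16, 20, 16], [28, 38, 39]), ([18, 20, 16], [40, 6, 41]), ([16, 16, 18], [42, 43, 44]), ([18, 16, 18], [45, 7, 46]), ([20, 16, 18], [47, 48, 7]), ([16, 20, 18], [44, 49, 50]), ([18, 20, 18], [51, 8, 52]),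 ([18, 16, 20], [53, 9, 33]), ([20, 16, 20], [39, 54, 9]), ([16, 18, 20], [55, 56, 29]), ([20, 18, 20], [57, 52, 10]), ([18, 16, 16, 16], [58, 11, 59]), ([20, 16, 16, 16], [60, 61, 11]), ([16, 18, 16, 16], [62, 63, 25]), ([20, 18, 16, 16], [64, 65, 12]), ([16, 20, 16, 16], [3, 66, 67]), ([18, 20, 16, 16], [20, 13, 68]), ([16, 16, 18, 16], [69, 70, 23]), ([18, 16, 18, 16], [71, 14, 72]), ([20, 16, 18, 16], [73, 74, 14]), ([16, 20, 18, 16], [23, 75, 76]), ([18, 20, 18, 16], [22, 15, 77]), ([18, 16, 20, 16], [78, 16, 62]), ([20, 16, 20, 16], [67, 79, 16]), ([16, 18, 20, 16], [80, 81, 58]), ([20, 18, 20, 16], [82, 77, 17]), ([16, 16, 16, 18], [2, 83, 84]), ([18, 16, 16, 18], [85, 18, 86]), ([20, 16, 16, 18], [87, 60, 18]), ([16, 18, 16, 18], [88, 82, 89]), ([20, 18, 16, 18], [90, 91, 19]), ([16, 20, 16, 18], [84, 92, 79]), ([18, 20, 16, 18], [93, 20, 94]), ([18, 16, 20, 18], [74, 21, 88]),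 ([20, 16, 20, 18], [79, 71, 21]), ([16, 18, 20, 18], [65, 59, 85]), ([20, 18, 20, 18], [95, 26, 22]), ([16, 18, 16, 20], [15, 89, 96]), ([18, 20, 16, 20], [97, 24, 80]), ([16, 16, 18, 20], [91, 86, 98]), ([18, 16, 18, 20], [72, 25, 83]), ([16, 20, 18, 20], [98, 99, 64]), ([16, 18, 16, 16, 16], [100, 101, 40]), ([20, 18, 16, 16, 16], [102, 51, 27]), ([16, 20, 16, 16, 16], [6, 44, 103]), ([18, 20, 16, 16, 16], [35, 28, 104]), ([16, 16, 18, 16, 16], [105, 106, 38]), ([18, 16, 18, 16, 16], [107, 29, 108]), ([16, 20, 18, 16, 16], [38, 109, 57]), ([18, 20, 18, 16, 16], [37, 30, 110]), ([18, 16, 20, 16, 16], [111, 31, 100]), ([20, 16, 20, 16, 16], [103, 112, 31]), ([20, 18, 20, 16, 16], [50, 110, 32]), ([16, 16, 16, 18, 16], [5, 113, 114]), ([18, 16, 16, 18, 16], [52, 33, 115]), ([16, 18, 16, 18, 16], [116, 50, 117]), ([20, 18, 16, 18, 16], [118, 119, 34]), ([16, 20, 16, 18, 16], [114, 120,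 112]), ([18, 20, 16, 18, 16], [46, 35, 121]), ([18, 16, 20, 18, 16], [56, 36, 116]), ([20, 16, 20, 18, 16], [112, 107, 36]), ([20, 18, 20, 18, 16], [43, 41, 37]), ([16, 18, 16, 20, 16], [30, 117, 122]), ([18, 20, 16, 20, 16], [123, 39, 47]), ([16, 16, 18, 20, 16], [119, 115, 54]), ([18, 16, 18, 20, 16], [108, 40, 113]), ([16, 20, 18, 20, 16], [54, 45, 102]), ([18, 16, 16, 16, 18], [101, 42, 56]), ([20, 16, 16, 16, 18], [32, 108, 42]), ([16, 18, 16, 16, 18], [106, 104, 51]), ([20, 18, 16, 16, 18], [120, 55, 43]), ([16, 20, 16, 16, 18], [8, 118, 123]), ([16, 16, 18, 16, 18], [113, 122, 49]), ([20, 16, 18, 16, 18], [109, 53, 45]), ([16, 20, 18, 16, 18], [49, 111, 107]), ([18, 20, 18, 16, 18], [10, 46, 105]), ([18, 16, 20, 16, 18], [115, 47, 106]), ([16, 18, 20, 16, 18], [117, 114, 101]), ([20, 18, 20, 16, 18], [34, 105, 48]), ([16, 20, 18, 20, 18], [110, 100, 120]), ([20, 16, 18, 16,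 20], [104, 124, 53]), ([16, 18, 20, 16, 20], [41, 116, 111]), ([20, 16, 16, 18, 20], [122, 103, 55]), ([18, 16, 20, 18, 20], [124, 57, 118]), ([16, 16, 18, 16, 16, 16], [125, 95, 66]), ([18, 16, 18, 16, 16, 16], [99, 58, 93]), ([16, 20, 18, 16, 16, 16], [66, 126, 82]), ([20, 16, 20, 16, 16, 16], [24, 98, 60]), ([20, 18, 20, 16, 16, 16], [76, 85, 61]), ([16, 16, 16, 18, 16, 16], [12, 94, 91]), ([18, 16, 16, 18, 16, 16], [77, 62, 92]), ([16, 18, 16, 18, 16, 16], [127, 76, 90]), ([20, 18, 16, 18, 16, 16], [89, 84, 63]), ([18, 16, 20, 18, 16, 16], [81, 64, 127]), ([20, 18, 20, 18, 16, 16], [70, 68, 65]), ([16, 18, 16, 20, 16, 16], [59, 90, 97]), ([18, 20, 16, 20, 16, 16], [96, 67, 73]), ([18, 16, 16, 16, 18, 16], [19, 69, 81]), ([20, 16, 16, 16, 18, 16], [61, 93, 69]), ([20, 18, 16, 16, 18, 16], [86, 80, 70]), ([16, 16, 18, 16, 18, 16], [94, 97, 75]), ([20, 16, 18, 16, 18, 16], [126,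 78, 71]), ([16, 20, 18, 16, 18, 16], [75, 87, 99]), ([18, 20, 18, 16, 18, 16], [17, 72, 125]), ([18, 16, 20, 16, 18, 16], [92, 73, 95]), ([20, 18, 20, 16, 18, 16], [63, 125, 74]), ([20, 16, 18, 16, 20, 16], [26, 88, 78]), ([16, 18, 20, 16, 20, 16], [68, 127, 87]), ([18, 20, 16, 18, 16, 20], [83, 96, 126]), ([16, 16, 16, 18, 16, 16, 16], [27, 121, 119]), ([18, 16, 20, 18, 16, 16, 16], [48, 102, 124]), ([16, 16, 18, 16, 18, 16, 16], [121, 123, 109])]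
noncomputable def s_E : List (List ℕ) := [[], [16], [18], [20], [16, 16], [18, 16], [20, 16], [16, 18], [20, 18], [16, 20], [18, 20], [16, 16, 16], [18, 16, 16], [20, 16, 16], [16, 18, 16], [20, 18, 16], [16, 20, 16], [18, 20, 16], [16, 16, 18], [18, 16, 18], [20, 16, 18], [16, 20, 18], [18, 20, 18], [18, 16, 20], [20, 16, 20], [16, 18, 20], [20, 18, 20], [18, 16, 16, 16], [20, 16, 16, 16], [16, 18, 16, 16], [20, 18, 16, 16], [16, 20, 16, 16], [18, 20, 16, 16], [16, 16, 18, 16], [18, 16, 18, 16], [20, 16, 18, 16], [16, 20, 18, 16], [18, 20, 18, 16], [18, 16, 20, 16], [20, 16, 20, 16], [16, 18, 20, 16], [20, 18, 20, 16], [16, 16, 16, 18], [18, 16, 16, 18], [20, 16, 16, 18], [16, 18, 16, 18], [20, 18, 16, 18], [16, 20, 16, 18], [18, 20, 16, 18], [18, 16, 20, 18], [20, 16, 20, 18], [16, 18, 20, 18], [20, 18, 20, 18], [16, 18, 16, 20], [18, 20, 16, 20], [16, 16, 18, 20], [18, 16, 18,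 20], [16, 20, 18, 20], [16, 18, 16, 16, 16], [20, 18, 16, 16, 16], [16, 20, 16, 16, 16], [18, 20, 16, 16, 16], [16, 16, 18, 16, 16], [18, 16, 18, 16, 16], [16, 20, 18, 16, 16], [18, 20, 18, 16, 16], [18, 16, 20, 16, 16], [20, 16, 20, 16, 16], [20, 18, 20, 16, 16], [16, 16, 16, 18, 16], [18, 16, 16, 18, 16], [16, 18, 16, 18, 16], [20, 18, 16, 18, 16], [16, 20, 16, 18, 16], [18, 20, 16, 18, 16], [18, 16, 20, 18, 16], [20, 16, 20, 18, 16], [20, 18, 20, 18, 16], [16, 18, 16, 20, 16], [18, 20, 16, 20, 16], [16, 16, 18, 20, 16], [18, 16, 18, 20, 16], [16, 20, 18, 20, 16], [18, 16, 16, 16, 18], [20, 16, 16, 16, 18], [16, 18, 16, 16, 18], [20, 18, 16, 16, 18], [16, 20, 16, 16, 18], [16, 16, 18, 16, 18], [20, 16, 18, 16, 18], [16, 20, 18, 16, 18], [18, 20, 18, 16, 18], [18, 16, 20, 16, 18], [16, 18, 20, 16, 18], [20, 18, 20, 16, 18], [16, 20, 18, 20, 18], [20, 16, 18, 16, 20], [16, 18, 20,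 16, 20], [20, 16, 16, 18, 20], [18, 16, 20, 18, 20], [16, 16, 18, 16, 16, 16], [18, 16, 18, 16, 16, 16], [16, 20, 18, 16, 16, 16], [20, 16, 20, 16, 16, 16], [20, 18, 20, 16, 16, 16], [16, 16, 16, 18, 16, 16], [18, 16, 16, 18, 16, 16], [16, 18, 16, 18, 16, 16], [20, 18, 16, 18, 16, 16], [18, 16, 20, 18, 16, 16], [20, 18, 20, 18, 16, 16], [16, 18, 16, 20, 16, 16], [18, 20, 16, 20, 16, 16], [18, 16, 16, 16, 18, 16], [20, 16, 16, 16, 18, 16], [20, 18, 16, 16, 18, 16], [16, 16, 18, 16, 18, 16], [20, 16, 18, 16, 18, 16], [16, 20, 18, 16, 18, 16], [18, 20, 18, 16, 18, 16], [18, 16, 20, 16, 18, 16], [20, 18, 20, 16, 18, 16], [20, 16, 18, 16, 20, 16], [16, 18, 20, 16, 20, 16], [18, 20, 16, 18, 16, 20], [16, 16, 16, 18, 16, 16, 16], [18, 16, 20, 18, 16, 16, 16], [16, 16, 18, 16, 18, 16, 16]]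
noncomputable def s_I : List (List ℕ × List ℕ × ℕ) := [([], [], 0), ([16], [], 77), ([18], [2, 18, 20, 14, 6, 10, 8, 14, 17, 10], 0), ([20], [20, 4, 18, 6, 0, 9, 9, 12, 16], 0), ([16, 16], [8, 18, 12, 17, 12, 6, 2], 0), ([18, 16], [], 77), ([20, 16], [], 77), ([16, 18], [], 77), ([20, 18], [], 77), ([16, 20], [], 77), ([18, 20], [], 77), ([16, 16, 16], [], 77), ([18, 16, 16], [], 52), ([20, 16, 16], [9, 2, 20, 4, 0, 12, 18], 0), ([16, 18, 16], [], 77), ([20, 18, 16], [], 52), ([16, 20, 16], [2, 4, 0, 16, 4, 9, 12, 18, 16], 0), ([18, 20, 16], [], 77), ([16, 16, 18], [], 52), ([18, 16, 18], [], 77), ([20, 16, 18], [], 77), ([16, 20, 18], [], 52), ([18, 20, 18], [0, 17, 18, 16, 4, 8, 12, 6], 0), ([18, 16, 20], [], 52), ([20, 16, 20], [], 77), ([16, 18, 20], [], 77), ([20, 18, 20], [20, 2, 14, 9, 4, 18, 10, 18, 10, 8], 0), ([18, 16, 16, 16], [], 77), ([20, 16, 16, 16], [], 77), ([16,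 18, 16, 16], [], 77), ([20, 18, 16, 16], [], 77), ([16, 20, 16, 16], [], 77), ([18, 20, 16, 16], [], 77), ([16, 16, 18, 16], [], 77), ([18, 16, 18, 16], [], 77), ([20, 16, 18, 16], [], 52), ([16, 20, 18, 16], [], 77), ([18, 20, 18, 16], [4, 6, 12, 6, 17, 12, 16, 20, 0, 4, 17], 0), ([18, 16, 20, 16], [], 77), ([20, 16, 20, 16], [16, 4, 9, 16], 0), ([16, 18, 20, 16], [], 77), ([20, 18, 20, 16], [], 77), ([16, 16, 16, 18], [], 77), ([18, 16, 16, 18], [17, 20, 0, 16, 14, 18, 17, 4], 0), ([20, 16, 16, 18], [], 77), ([16, 18, 16, 18], [], 77), ([20, 18, 16, 18], [14, 17, 6, 16, 4, 14, 8, 12, 6, 9], 0), ([16, 20, 16, 18], [], 77), ([18, 20, 16, 18], [], 77), ([18, 16, 20, 18], [], 77), ([20, 16, 20, 18], [], 77), ([16, 18, 20, 18], [10, 14, 12, 14, 11, 16, 18, 8, 18], 0), ([20, 18, 20, 18], [12, 4, 11, 18, 9, 18, 0, 17], 0), ([16, 18, 16, 20], [], 52), ([18, 20, 16, 20], [], 77), ([16, 16,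 18, 20], [], 77), ([18, 16, 18, 20], [4, 8, 0, 8, 12, 6, 9, 18, 0, 18], 0), ([16, 20, 18, 20], [], 77), ([16, 18, 16, 16, 16], [0, 6, 11, 12, 14, 12, 10, 4, 14, 17, 0, 10], 0), ([20, 18, 16, 16, 16], [], 77), ([16, 20, 16, 16, 16], [18, 4, 0, 4, 8, 6, 12], 0), ([18, 20, 16, 16, 16], [], 52), ([16, 16, 18, 16, 16], [4, 6, 12, 0, 9, 0, 9, 17, 4], 0), ([18, 16, 18, 16, 16], [], 77), ([16, 20, 18, 16, 16], [], 52), ([18, 20, 18, 16, 16], [4, 9, 4, 12, 8, 18, 12, 9, 6], 0), ([18, 16, 20, 16, 16], [], 77), ([20, 16, 20, 16, 16], [], 77), ([20, 18, 20, 16, 16], [], 52), ([16, 16, 16, 18, 16], [14, 17, 14, 12, 18, 9, 4, 9, 9, 11, 4, 14, 11, 8, 14], 0), ([18, 16, 16, 18, 16], [], 77), ([16, 18, 16, 18, 16], [], 77), ([20, 18, 16, 18, 16], [], 77), ([16, 20, 16, 18, 16], [], 52), ([18, 20, 16, 18, 16], [], 77), ([18, 16, 20, 18, 16], [], 52), ([20, 16, 20, 18, 16], [4, 0, 20, 4, 6, 14, 9, 14,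 0, 9, 6, 20], 0), ([20, 18, 20, 18, 16], [], 77), ([16, 18, 16, 20, 16], [], 77), ([18, 20, 16, 20, 16], [2, 17, 12, 16, 11, 12, 14, 12, 10, 12, 0, 10], 0), ([16, 16, 18, 20, 16], [], 77), ([18, 16, 18, 20, 16], [], 52), ([16, 20, 18, 20, 16], [], 77), ([18, 16, 16, 16, 18], [], 77), ([20, 16, 16, 16, 18], [], 52), ([16, 18, 16, 16, 18], [], 77), ([20, 18, 16, 16, 18], [14, 6, 10, 14, 9, 14, 9, 20, 10, 9, 6, 12], 0), ([16, 20, 16, 16, 18], [], 77), ([16, 16, 18, 16, 18], [], 77), ([20, 16, 18, 16, 18], [], 77), ([16, 20, 18, 16, 18], [], 52), ([18, 20, 18, 16, 18], [], 52), ([18, 16, 20, 16, 18], [4, 0, 18, 12, 8, 16, 12, 2], 0), ([16, 18, 20, 16, 18], [], 52), ([20, 18, 20, 16, 18], [], 77), ([16, 20, 18, 20, 18], [], 77), ([20, 16, 18, 16, 20], [], 77), ([16, 18, 20, 16, 20], [4, 17, 0, 14, 6, 14, 16, 4], 0), ([20, 16, 16, 18, 20], [], 52), ([18, 16, 20, 18, 20], [], 77), ([16,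 16, 18, 16, 16, 16], [], 77), ([18, 16, 18, 16, 16, 16], [6, 0, 17, 17, 0, 14, 0, 16, 4, 0, 8, 6], 0), ([16, 20, 18, 16, 16, 16], [], 52), ([20, 16, 20, 16, 16, 16], [4, 8, 12, 16, 12, 6, 9, 6, 16], 0), ([20, 18, 20, 16, 16, 16], [], 77), ([16, 16, 16, 18, 16, 16], [], 77), ([18, 16, 16, 18, 16, 16], [16, 9, 12, 17, 6, 12, 8], 0), ([16, 18, 16, 18, 16, 16], [0, 4, 12, 6, 12, 18, 12, 0, 2], 0), ([20, 18, 16, 18, 16, 16], [], 77), ([18, 16, 20, 18, 16, 16], [0, 6, 14, 0, 18, 14, 9, 4, 2], 0), ([20, 18, 20, 18, 16, 16], [4, 9, 6, 17, 6, 12, 8], 0), ([16, 18, 16, 20, 16, 16], [], 77), ([18, 20, 16, 20, 16, 16], [], 77), ([18, 16, 16, 16, 18, 16], [12, 16, 12, 14, 12, 8, 4, 8, 12], 0), ([20, 16, 16, 16, 18, 16], [], 77), ([20, 18, 16, 16, 18, 16], [10, 18, 10, 16, 9, 18], 0), ([16, 16, 18, 16, 18, 16], [16, 14, 4, 14, 8, 8, 14, 9, 17, 18, 9, 2], 0), ([20, 16, 18, 16, 18, 16], [9, 20, 18,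 17, 6, 12, 6, 9, 0], 0), ([16, 20, 18, 16, 18, 16], [], 77), ([18, 20, 18, 16, 18, 16], [], 52), ([18, 16, 20, 16, 18, 16], [16, 20, 12, 11, 4, 14, 6, 10, 12, 0, 8, 18], 0), ([20, 18, 20, 16, 18, 16], [], 77), ([20, 16, 18, 16, 20, 16], [], 77), ([16, 18, 20, 16, 20, 16], [], 77), ([18, 20, 16, 18, 16, 20], [], 77), ([16, 16, 16, 18, 16, 16, 16], [], 77), ([18, 16, 20, 18, 16, 16, 16], [], 77), ([16, 16, 18, 16, 18, 16, 16], [], 77)]
noncomputable def sc_l0 : Level := ⟨5, [[16], [18], [20]], [0, 1, 2, 0, 0, 1, 0, 2, 0, 0], 0x4797080222661008911404040205c4021602400840a051004040440282a06a4003a20, 64⟩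
noncomputable def sc_l1 : Level := ⟨0, [[18, 16, 18, 20]], [0], 0x8000000000000000000000001, 2⟩
noncomputable def sc_ls : List Level := [sc_l0, sc_l1]
theorem sc_l0_ok : (ptsOK 9 [] && (wordsIn [16, 18, 20] sc_l0.S && sc_l0.ok 9 x_ns x_ts [])) = true := by decide +kernel
theorem sc_l1_ok : (ptsOK 9 [5] && (wordsIn [16, 18, 20] sc_l1.S && sc_l1.ok 9 x_ns x_ts [5])) = true := by decide +kernel
theorem sc_sound {G : Type*} [Group G] {φ : G →* Equiv.Perm ℕ} {γ : ℕ → G}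
    (M : Model φ γ 9 x_ns x_ts) : ChainSound φ (gp γ [16, 18, 20]) 9 [] sc_ls :=
  ⟨Level.ok_sound' M sc_l0_ok,
   Level.ok_sound' M sc_l1_ok, trivial⟩
theorem s_cl : closB 9 x_ts (chainBase [] c2_ls) [16, 18, 20] s_E s_P = true := by decide +kernel
theorem s_inv : invB 9 x_ts (chainBase [] c2_ls) [2] s_I = true := by decide +kernel
theorem s_conj {G : Type*} [Group G] {φ : G →* Equiv.Perm ℕ} {γ : ℕ → G}
    (C : Cert φ γ 9 x_ns x_ts [0, 2, 4, 6, 8, 10, 12, 14, 16, 18, 20] c2_ls) (x y : G) : orderOf x = 2 → orderOf y = 2 → IsConj x y :=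
  haveI := C.fin
  isConj_of_list C.M C.base (fun _ => mem_list C.M C.base (by decide +kernel) (by decide +kernel) s_cl) (sc_sound C.M)
    (n := 7) (N := 898128000) (C.card.trans (by decide +kernel)) (by decide +kernel) (by decide +kernel) (by decide +kernel)
    (by decide +kernel) s_inv x y

end Cfsg.Agent.McLC
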