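import Cfsg.Agent.Mult.Slices
import Cfsg.Agent.McLC.Cert
import Cfsg.Agent.McLC.MulPres

set_option autoImplicit false
set_option Elab.async false
set_option maxRecDepth 100000
set_option linter.all false

namespace Cfsg.Agent.McLC
open Cfsg.Agent.CGT

open Cfsg.Agent.Mult

noncomputable def u2_D : PC := ⟨2, 7, 2, 18,
  [[0, 0x44, 0x1410, 0x40, 0x500, 0x400, 0x1000], [0, 0x100, 0x110, 0x440, 0x100, 0x1400, 0x1000], [0, 0, 0, 0x440, 0x100, 0x400, 0x1000], [0, 0, 0, 0, 0x1100, 0x400, 0x1000], [0, 0, 0, 0, 0, 0x400, 0x1000], [0, 0, 0, 0, 0, 0, 0x1000], [0, 0, 0, 0, 0, 0, 0]],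
  [0xcf, 0xcf, 3, 3, 0, 0, 0],
  [(7, 1, 0x440), (7, 0x10, 0x1110), (7, 0x40, 0x441), (7, 0x100, 0x410), (7, 0x400, 0x400), (8, 1, 1), (8, 0x100, 0x1014), (8, 0x400, 0x1040), (9, 0x100, 0x1400)], 19, 0x40000050302000000000100000000060000⟩
noncomputable def u2_ds : List (List ℕ) := [[8, 2, 10, 0, 4, 8, 4, 0, 10, 2, 8], [0, 4, 6, 4, 6, 8, 0, 10, 2, 0, 4, 10, 8, 6], [6, 4, 0, 4, 6], [8, 10, 6, 10, 8, 10, 6, 10, 8], [6, 2, 8, 4, 0, 4, 2, 10, 6, 8, 2, 0], [0, 2, 4, 6, 4, 2, 4, 0], [0, 8, 2, 0, 10, 6, 10, 0, 2, 8, 0], [10, 4, 2, 6, 8, 6, 0, 10, 6, 4, 0, 8, 0], [2, 0, 10, 6, 10, 8, 0, 8, 4, 8, 2, 8, 4, 0, 2, 8, 0], [6, 4, 6, 2, 8, 6, 10, 6, 8, 2, 4, 6, 4, 0, 2]]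
noncomputable def u2_c : Mult.Cert := ⟨21, 16, [[], [], [], [1], [9], [10], [12]],
  [],
  [[0x508444, 0, 0x37f99c, 0x448404, 0xb3ad04, 0x43e800, 0x76c00], [0, 0x8a3022, 0, 0, 0x1000000, 0, 0xc23800], [0, 0, 0x812821, 0xb6ff84, 0x8b2801, 0x416800, 0xc24800], [0, 0, 0, 0x548404, 0xc32a00, 0x476800, 0x200000], [0, 0, 0, 0, 0x832801, 0x426800, 0x800000], [0, 0, 0, 0, 0, 0x436800, 0x400000], [0, 0, 0, 0, 0, 0, 0x804000]]⟩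
theorem u2_all : allB u2_D u2_c [.assoc 4 4 4, .assoc 0x400 0x100 4, .assoc 0x400 0x100 0x40, .assoc 0x1000 4 1, .assoc 4 1 1, .assoc 0x10 0x10 4, .assoc 0x40 0x40 4, .assoc 0x40 0x10 0x10, .assoc 0x100 0x100 1, .assoc 0x100 1 1, .assoc 0x100 0x100 0x40, .assoc 0x400 0x10 4, .assoc 0x400 4 4, .assoc 0x10 0x10 1, .assoc 0x100 0x40 1, .assoc 0x40 4 4, .assoc 4 4 1, .assoc 0x10 4 1, .fus 7 [0, 0] [], .fus 7 [3, 3] [], .fus 7 [3, 0] [0, 3, 4], .fus 7 [2, 1] [1, 2, 4], .fus 8 [7, 5] [5, 7], .fus 8 [6, 6] [], .fus 9 [8, 8] []] 9 m_ts u2_ds [5, 4, 3, 2, 1, 0] [(124, [4]), (1, [0x40, 1]), (0, [0x1000, 0x100]), (3, [0x400]), (2, [0x10])] = true := by decide +kernel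
theorem u2_pb {G : Type*} [Group G] [Finite G] {φ : G →* Equiv.Perm ℕ} {γ : ℕ → G}
    (M : Model φ γ 9 m_ns m_ts) (hB : IsBase φ ⊤ [5, 4, 3, 2, 1, 0]) (hN : Nat.card G = 898128000) : PBound G 2 0 :=
  pbound_all M hB hN (by decide +kernel) (by decide +kernel) u2_all
noncomputable def u3_D : PC := ⟨3, 6, 2, 25,
  [[0, 4, 0x50, 0x440, 0x500, 0x400], [0, 0, 0x110, 0x440, 0x900, 0x400], [0, 0, 0x400, 0x40, 0x500, 0x400], [0, 0, 0, 0, 0x100, 0x400], [0, 0, 0, 0, 0, 0x400], [0, 0, 0, 0, 0, 0]],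
  [0xfc, 0x3f, 0xc, 0, 0, 0],
  [(6, 1, 8), (6, 4, 0x801), (6, 0x10, 0x828), (6, 0x40, 0x100), (6, 0x100, 0x80), (6, 0x400, 0x400), (7, 1, 0x88a), (7, 4, 0x609)], 13, 0x20304030105020400010005⟩
noncomputable def u3_ds : List (List ℕ) := [[8, 4, 6, 0, 8, 4, 2, 4, 0, 6], [4, 0, 8, 0, 4, 6, 8, 2, 0], [6, 0, 4, 6, 4, 6, 10, 4, 0, 8, 4, 0, 8, 4, 0], [4, 10, 8, 0, 6, 0, 2, 8, 10, 4, 0, 10], [2, 10, 4, 8, 4, 10, 2, 10, 6, 8, 4, 8, 6, 10], [10, 6, 4, 2, 0, 4, 6, 4, 8, 10, 0, 10, 2, 10, 8, 2, 0], [8, 4, 8, 0, 6, 2, 4, 6, 8, 2, 0, 8, 0, 4, 10, 0, 6], [4, 6, 10, 6, 2, 6, 4, 6, 8, 6, 4, 10, 6, 8, 0, 10]]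
noncomputable def u3_c : Mult.Cert := ⟨64, 21, [[], [], [], [2], [8], [3]],
  [([15, 15], 1, 0x19ebea8a57161bf)],
  [[0x846a8, 0x47da43d9, 0, 0, 0x168852dc, 0x97ad4b6f], [0, 0x105a0e, 0, 0x9bdbb83d, 0x10cf478d, 0x99633045], [0, 0, 0x5f4f832, 1, 0x45b8406c, 0x4546b3db], [0, 0, 0, 0x97af18c1, 0x4ab15dd6, 0xf650b86], [0, 0, 0, 0, 0x96e2ddc9, 0x521ae82], [0, 0, 0, 0, 0, 0x1037e2]]⟩
theorem u3_all : allB u3_D u3_c [.assoc 0x10 0x20 0x10, .assoc 0x80 0x40 0x10, .assoc 0x100 0x40 0x10, .assoc 0x400 0x10 4, .assoc 0x40 4 1, .assoc 0x40 0x10 4, .assoc 0x10 4 1, .assoc 0x80 0x40 1, .assoc 0x100 0x10 1, .assoc 0x20 0x10 1, .assoc 0x10 8 4, .fus 6 [0, 0, 0] [], .fus 6 [1, 1, 1] [], .fus 6 [3, 0] [0, 3, 5], .fus 6 [3, 1] [1, 3, 5], .fus 6 [3, 2] [2, 3], .fus 6 [4, 2] [2, 4, 5], .fus 6 [2, 2, 2] [5], .fus 7 [7, 6] [6,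 7]] 9 m_ts u3_ds [5, 4, 3, 2, 1, 0] [(131, [0x10]), (0, [0x400, 0x100, 0x40]), (8, [4]), (1, [5])] = true := by decide +kernel
theorem u3_pb {G : Type*} [Group G] [Finite G] {φ : G →* Equiv.Perm ℕ} {γ : ℕ → G}
    (M : Model φ γ 9 m_ns m_ts) (hB : IsBase φ ⊤ [5, 4, 3, 2, 1, 0]) (hN : Nat.card G = 898128000) : PBound G 3 1 :=
  pbound_all M hB hN (by decide +kernel) (by decide +kernel) u3_all
noncomputable def u5_D : PC := ⟨5, 3, 3, 24,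
  [[0, 0x48, 0x40], [0, 0, 0x40], [0, 0, 0]],
  [7, 0, 0],
  [(3, 1, 0x8a), (3, 8, 0x53), (3, 0x40, 0x40)], 11, 0x1010002020100020000⟩
noncomputable def u5_ds : List (List ℕ) := [[4, 2, 0, 6, 4, 0, 4, 8, 4, 6, 2], [6, 4, 0, 2, 8, 2, 4, 0, 8, 10, 6, 0, 8, 2, 0, 6], [4, 2, 0, 6, 8, 4, 2, 4, 0, 10, 0, 2, 4, 0, 6, 0, 8], [4, 6, 10, 4, 6, 8, 2, 10, 8, 0, 6, 8, 6]]
noncomputable def u5_c : Mult.Cert := ⟨114, 21, [[], [], [1]],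
  [],
  [[0x760, 0, 0x145], [0, 0x769, 0x226], [0, 0, 0x9c4]]⟩
theorem u5_all : allB u5_D u5_c [.assoc 0x20 8 1, .fus 3 [2, 0] [0, 2], .fus 3 [2, 1] [1, 2], .fus 3 [0, 0, 0, 0, 0] [], .fus 3 [1, 1, 1, 1, 1] []] 9 m_ts u5_ds [5, 4, 3, 2, 1, 0] [(0, [0x40, 8]), (1, [1])] = true := by decide +kernel
theorem u5_pb {G : Type*} [Group G] [Finite G] {φ : G →* Equiv.Perm ℕ} {γ : ℕ → G}
    (M : Model φ γ 9 m_ns m_ts) (hB : IsBase φ ⊤ [5, 4, 3, 2, 1, 0]) (hN : Nat.card G = 898128000) : PBound G 5 0 :=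
  pbound_all M hB hN (by decide +kernel) (by decide +kernel) u5_all
theorem q_rels {φ} (C : Cert φ γ 9 m_ns m_ts [0, 2, 4, 6, 8, 10] c_ls) : Holds (ext γ) qRR :=
  relsB_sound C.M C.base (by decide +kernel) (fun _ _ => trivial) (by decide +kernel)

end Cfsg.Agent.McLC
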