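import Cfsg.Agent.McLC.Cert
import Cfsg.Agent.Leech.Aut

set_option autoImplicit false
set_option Elab.async false
set_option maxRecDepth 100000
set_option linter.all false

namespace Cfsg.Agent.McLC
open Cfsg.Agent.CGT

noncomputable def cu_l0 : Level := ⟨0, [[0], [2], [4], [6], [8], [10]], [5, 0, 1, 3, 2, 4, 0, 5, 3, 2, 5, 0, 3, 4, 1], 0x7ffffffffffffffffffffffffffffffffffffffffffffffffffffffffffffffffffff, 275⟩
noncomputable def cu_l1 : Level := ⟨1, [[0], [2], [4], [6], [8]], [4, 0, 1, 3, 4, 2, 0, 1, 4, 3, 0, 4, 1, 2], 0x5cfa3dbf76f819d2fea6b8bf236cc45d05a500c17a8fbf3ffa5dff0835e93b56f6fee, 162⟩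
noncomputable def cu_l2 : Level := ⟨41, [[0], [2], [4], [6]], [0, 1, 2, 3, 0, 1, 2, 0, 1, 0, 2], 0x5cba1d9542200890aea2b0a9226cc44005a50081788bb6367015fa0835213b4230740, 105⟩
noncomputable def cu_l3 : Level := ⟨89, [[6, 0, 4, 6, 2, 4, 2, 0, 2], [4, 0, 4, 6, 0, 2, 0, 4, 0, 4], [0, 10, 8, 10, 8, 6, 2, 0, 8, 0]], [], 0x5cb8150442000890a620b0a80244400000240081708194365005480011002b4010300, 64⟩
noncomputable def cu_l4 : Level := ⟨216, [[0, 6, 4, 6, 0, 6, 4, 6, 0, 2]], [], 0x200001000000000000000000000000000000000000008000000000000000, 3⟩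
noncomputable def cu_ls : List Level := [cu_l0, cu_l1, cu_l2, cu_l3, cu_l4]
noncomputable def cu_S : Srch := ⟨9, m_ts, (chainBase [] c_ls), [0, 2, 4, 0, 10, 2, 10, 2, 10, 6, 0, 8, 4, 6, 2], [0, 2, 4, 0, 10, 2, 10, 2, 10, 6, 0, 8, 4, 6, 2], [[0, 8, 0, 10, 2, 6, 10, 4, 0, 2, 8, 0, 2, 8, 0, 4, 0, 2, 4, 0], [8, 2, 10, 0, 6, 8, 4, 6, 8, 4, 6, 0, 6, 4, 6, 0, 2, 4, 2], [0, 10, 4, 10, 2, 10, 4, 2, 8, 2, 0, 8, 2, 4, 6, 0, 2, 0, 2, 4], [6, 0, 8, 2, 10, 0, 4, 6, 8, 2, 0, 8, 6, 4, 6, 0, 4, 2, 0]]⟩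
noncomputable def cu_lk : List ℕ := [1, 2, 42, 90]
noncomputable def cu_tl : List Level := [cu_l1, cu_l2, cu_l3, cu_l4]
noncomputable def cu_R0 : ℕ := 0x80103107249800000b0a042224c41602060410000142002050c81061812a0042661
theorem cu_l0_ok : (ptsOK 9 [] && (wordsIn [0, 2, 4, 6, 8, 10] cu_l0.S && cu_l0.ok 9 m_ns m_ts [])) = true := by decide +kernel
theorem cu_l1_ok : (ptsOK 9 [0] && (wordsIn [0, 2, 4, 6, 8, 10] cu_l1.S && cu_l1.ok 9 m_ns m_ts [0])) = true := by decide +kernel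
theorem cu_l2_ok : (ptsOK 9 [1, 0] && (wordsIn [0, 2, 4, 6, 8, 10] cu_l2.S && cu_l2.ok 9 m_ns m_ts [1, 0])) = true := by decide +kernel
theorem cu_l3_ok : cu_l3.okT 9 m_ts [0, 2, 4, 6, 8, 10] [41, 1, 0] (.cons [0] (.cons [2] (.cons [0] .nil (.cons [1] (.cons [4] .nil .nil) (.cons [4] .nil .nil))) (.cons [4] (.cons [2] .nil .nil) (.cons [5] (.cons [0] (.cons [2] .nil .nil) (.cons [2] (.cons [1] (.cons [5] .nil .nil) (.cons [4] .nil .nil)) .nil)) .nil))) (.cons [1] (.cons [2] (.cons [0] .nil (.cons [1] (.cons [4] .nil (.cons [5] (.cons [2] (.cons [1] .nil .nil) .nil) .nil)) (.cons [4] .nil .nil))) (.cons [4] (.cons [2] .nil .nil) (.cons [5] (.cons [2] (.cons [1] .nil (.cons [0] .nil (.cons [5] .nil .nil))) .nil) .nil))) (.cons [2] (.cons [0] (.cons [4] (.cons [2] (.cons [5] .nil .nil) .nil) (.cons [5] .nil .nil)) (.cons [1] (.cons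 [4] .nil .nil) (.cons [4] (.cons [1] .nil .nil) (.cons [5] (.cons [0] .nil .nil) .nil)))) (.cons [4] (.cons [1] (.cons [2] (.cons [0] .nil (.cons [1] .nil .nil)) .nil) (.cons [2] .nil .nil)) (.cons [5] (.cons [0] (.cons [2] (.cons [0] .nil (.cons [1] (.cons [5] .nil .nil) (.cons [4] .nil .nil))) .nil) (.cons [2] (.cons [0] .nil (.cons [1] (.cons [4] .nil .nil) (.cons [4] (.cons [1] .nil .nil) (.cons [5] .nil .nil)))) .nil)) .nil))))) = true := by decide +kernel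
theorem cu_l4_ok : cu_l4.okT 9 m_ts [0, 2, 4, 6, 8, 10] [89, 41, 1, 0] (.cons [0] .nil (.cons [1] .nil .nil)) = true := by decide +kernel
theorem cu_aux : cu_S.auxB [0, 2, 4, 6, 8, 10] cu_ls [] (0 :: cu_lk) = true := by decide +kernel
theorem cu_cov : Nat.beq (Nat.land cu_l0.O (Srch.cover m_ns (invW cu_S.u') cu_R0 4)) cu_l0.O = true := by decide +kernel
theorem cu_r0 : cu_S.run (.cons [] (.cons [] (.cons [] (.cons [] (.cons [] (.leaf 2000) .nil) .nil) .nil) .nil) (.cons [10] (.cons [2, 4, 8, 6, 8] .nil .nil) (.cons [0, 10] (.cons [2, 4, 6, 8, 2, 8] .nil .nil) (.cons [2, 10] .nil (.cons [6, 10] (.cons [4, 0, 4, 8, 6, 8] (.cons [4, 0, 2, 0] .nil .nil) .nil) (.cons [0, 6, 10] (.cons [8, 4, 6, 8] .nil .nil) (.cons [2, 6, 10] .nil (.cons [8, 6, 10] (.cons [4, 0, 4, 8, 6, 8] (.cons [4] (.cons [5, 2, 5] .nil .nil) .nil) .nil) (.cons [6,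 0, 10] (.cons [0, 4, 8, 0, 2, 8] .nil .nil) (.cons [8, 0, 10] (.cons [6, 8, 0, 2, 8, 0, 2, 8] (.cons [6, 2, 4, 2, 6] (.cons [2, 1, 4] (.cons [1] (.leaf 0) .nil) .nil) .nil) .nil) (.cons [0, 2, 10] .nil (.cons [4, 2, 10] (.cons [0, 4, 0, 6, 8] (.cons [0, 4, 0] .nil .nil) .nil) (.cons [8, 2, 10] (.cons [0, 6, 8, 4, 6, 8] (.cons [0, 2] (.cons [0] (.cons [1] (.leaf 2) .nil) .nil) .nil) .nil) (.cons [10, 2, 10] (.cons [6, 4, 0, 6, 8] (.cons [6, 2, 4] (.cons [1, 2] .nil .nil) .nil) .nil) (.cons [4, 8, 6, 10] .nil (.cons [6, 8, 6, 10] (.cons [4, 2, 8, 0, 8] (.cons [4, 0, 6, 0, 4] .nil .nil) .nil) (.cons [10, 8, 6, 10] (.cons [4, 8, 4, 0, 8, 0, 2, 8] (.cons [0, 4, 6, 2, 4] (.cons [2, 4, 0, 2] .nil .nil) .nil) .nil) (.cons [0, 4, 2, 10] (.cons [0, 4, 0, 4, 2, 8] (.cons [4, 2, 0] .nil .nil) .nil) (.cons [2, 6, 0, 10] (.cons [0, 4, 6, 8, 2,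 0, 8] .nil .nil) (.cons [8, 6, 0, 10] (.cons [8, 6, 2, 0, 8] (.cons [4, 0, 4, 0, 6, 0] (.cons [2] .nil .nil) .nil) .nil) (.cons [10, 6, 0, 10] (.cons [4, 8, 4, 0, 8] (.cons [4, 0, 2, 4] .nil .nil) .nil) (.cons [4, 2, 6, 10] (.cons [2, 8, 4, 2, 0, 8] (.cons [4, 0, 4, 0, 4, 6, 0] (.cons [1, 4, 2, 5] .nil .nil) .nil) .nil) (.cons [10, 2, 6, 10] (.cons [8, 0, 8] (.cons [2, 4, 2, 6] (.cons [5, 2, 5] .nil .nil) .nil) .nil) (.cons [2, 10, 2, 10] (.cons [2, 8, 0, 8, 4, 0, 8] .nil .nil) (.cons [8, 10, 2, 10] (.cons [4, 2, 8, 4, 0, 8, 0, 8] .nil .nil) (.cons [2, 0, 6, 10] .nil (.cons [8, 0, 6, 10] (.cons [0, 4, 8, 6, 8] (.cons [4, 6, 0, 6] (.cons [4, 1, 2] .nil .nil) .nil) .nil) (.cons [10, 0, 6, 10] (.cons [8, 4, 2, 8, 2, 0, 8] (.cons [6, 4, 0, 6, 0] .nil .nil) .nil) (.cons [2, 10, 0, 10] (.cons [8, 6, 8] .nil .nil) (.cons [8, 2, 0, 10] .nil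 (.cons [2, 8, 2, 10] .nil (.cons [6, 8, 2, 10] (.cons [2, 0, 2, 8] (.cons [0, 4, 0] .nil .nil) .nil) (.cons [10, 8, 2, 10] (.cons [0, 2, 4, 8, 0, 2, 8] (.cons [0, 6, 4] (.cons [4, 2, 5, 0] (.cons [] (.leaf 4) .nil) .nil) .nil) .nil) (.cons [0, 10, 6, 10] (.cons [4, 0, 8, 4, 0, 8] (.cons [6, 2, 0, 4, 2] (.cons [1, 4, 2, 5] .nil .nil) .nil) .nil) (.cons [0, 8, 0, 10] (.cons [4, 2, 8, 2, 8] (.cons [6, 4, 2, 6] (.cons [4, 2, 5] .nil .nil) .nil) .nil) (.cons [0, 10, 2, 6, 10] .nil (.cons [10, 2, 6, 0, 10] (.cons [6, 4, 8, 0, 2, 8] (.cons [0, 2, 4] (.cons [1, 2, 0] .nil .nil) .nil) .nil) (.cons [10, 0, 8, 0, 10] (.cons [0, 8, 0, 8] .nil .nil) (.cons [10, 2, 10, 6, 10] (.cons [2, 8, 4, 0, 8, 0, 8] (.cons [0, 6, 4] (.cons [1, 2, 5] .nil .nil) .nil) .nil) (.cons [2, 10, 0, 6, 10] .nil (.cons [6, 10, 0, 6, 10] (.cons [0, 4, 6, 8, 2, 0, 8]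 (.cons [4, 0, 4, 6] .nil .nil) .nil) (.cons [8, 10, 0, 6, 10] (.cons [0, 8, 2, 8, 2, 0, 8] .nil .nil) (.cons [6, 10, 4, 6, 10] .nil (.cons [0, 6, 4, 6, 10] .nil (.cons [6, 0, 10, 2, 10] .nil (.cons [2, 10, 6, 0, 10] (.cons [0, 6, 8, 2, 8] (.cons [0, 6, 4, 0, 6, 0] (.cons [0, 2, 0] .nil .nil) .nil) .nil) (.cons [2, 8, 0, 6, 10] (.cons [0, 8, 2, 8, 2, 0, 8] (.cons [6, 0, 4, 2] (.cons [0, 2, 5, 1] .nil .nil) .nil) .nil) (.cons [2, 8, 10, 2, 10] (.cons [6, 4, 2, 8, 2, 0, 8] (.cons [6, 4, 6, 2, 4, 6, 2, 0] (.cons [4, 1, 2] (.cons [1] (.leaf 6) .nil) .nil) .nil) .nil) (.cons [6, 4, 6, 0, 10] .nil (.cons [10, 0, 10, 2, 6, 10] (.cons [8, 0, 6, 8, 4, 6, 8] (.cons [0, 6, 0, 4] (.cons [2, 5] .nil .nil) .nil) .nil) (.cons [6, 10, 6, 10, 2, 10] (.cons [8, 2, 8] .nil .nil) (.cons [8, 10, 6, 10, 2, 10] (.cons [8, 4, 0, 8, 0, 2, 8] (.cons [4, 6,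 2, 0, 4] .nil .nil) .nil) (.cons [10, 2, 4, 6, 0, 10] (.cons [4, 0, 6, 8, 2, 8] .nil .nil) (.cons [0, 8, 2, 10, 6, 10] (.cons [2, 4, 8, 4, 0, 8] (.cons [6, 4] (.cons [5, 1, 2, 0, 5] .nil .nil) .nil) .nil) (.cons [8, 2, 0, 8, 0, 10] .nil (.cons [10, 6, 8, 6, 0, 10] (.cons [8, 0, 8, 6, 0, 2, 8] (.cons [6, 4, 2, 6] .nil .nil) .nil) (.cons [8, 4, 10, 0, 6, 10] .nil (.cons [6, 0, 10, 8, 0, 6, 10] .nil (.cons [8, 2, 10, 2, 0, 10, 6, 10] .nil .nil))))))))))))))))))))))))))))))))))))))))))))))))))))))))))) (⟨cu_l0.b, cu_l0.S, [], cu_R0, 0⟩ :: cu_tl) (0 :: cu_lk) Pd.nil 0 = true := by decide +kernel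
theorem cu_sound {G : Type*} [Group G] {φ : G →* Equiv.Perm ℕ} {γ : ℕ → G}
    (M : Model φ γ 9 m_ns m_ts) : ChainSound φ (gp γ [0, 2, 4, 6, 8, 10]) 9 [] cu_ls :=
  ⟨Level.ok_sound' M cu_l0_ok,
   Level.ok_sound' M cu_l1_ok,
   Level.ok_sound' M cu_l2_ok,
   Level.okT_sound M cu_l3_ok,
   Level.okT_sound M cu_l4_ok, trivial⟩
theorem cu_cent {G : Type*} [Group G] {φ : G →* Equiv.Perm ℕ} {γ : ℕ → G}
    (C : Cert φ γ 9 m_ns m_ts [0, 2, 4, 6, 8, 10] c_ls) : Cent γ cu_S.u cu_S.Cl 4 :=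
  have X := (C.rechain (cu_sound C.M) (by decide +kernel)).exact
  have A := Srch.auxB_sound (S := cu_S) C.M (K := ⊤) le_top rfl cu_aux
  have F := fun {tr : Tr} {R : ℕ} => Srch.found_of_run (S := cu_S) C.M C.base (by decide +kernel) X A (tr := tr) (R := R)
  Cent.of_found (S := cu_S) C.M X rfl (F cu_r0) cu_cov

end Cfsg.Agent.McLC
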