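import Cfsg.Agent.McLC.Cert
import Cfsg.Agent.Leech.Aut

set_option autoImplicit false
set_option Elab.async false
set_option maxRecDepth 100000
set_option linter.all false

namespace Cfsg.Agent.McLC
open Cfsg.Agent.CGT

noncomputable def cx_l0 : Level := ⟨0, [[0], [2], [4], [6], [8], [10]], [5, 0, 1, 3, 2, 4, 0, 5, 3, 2, 5, 0, 3, 4, 1], 0x7ffffffffffffffffffffffffffffffffffffffffffffffffffffffffffffffffffff, 275⟩
noncomputable def cx_l1 : Level := ⟨1, [[0], [2], [4], [6], [8]], [4, 0, 1, 3, 4, 2, 0, 1, 4, 3, 0, 4, 1, 2], 0x5cfa3dbf76f819d2fea6b8bf236cc45d05a500c17a8fbf3ffa5dff0835e93b56f6fee, 162⟩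
noncomputable def cx_l2 : Level := ⟨56, [[0], [2], [4], [6]], [], 0xc2008805e0240110074044922b200050073405400040058200744a10442800000, 56⟩
noncomputable def cx_l3 : Level := ⟨176, [[6, 4, 2, 0, 2, 4, 0, 4], [4, 6, 0, 4, 0, 4, 0, 2]], [], 0x10000400102060000484000980100027a02c80080300080002000038002808100010, 36⟩
noncomputable def cx_l4 : Level := ⟨83, [[6, 0, 2, 0, 6, 4, 6, 4, 0, 2, 0], [2, 4, 0, 4, 6, 4, 6, 0, 2, 0, 4]], [], 0x88000000000000000000000000000000000809800000000080000044008, 10⟩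
noncomputable def cx_ls : List Level := [cx_l0, cx_l1, cx_l2, cx_l3, cx_l4]
noncomputable def cx_S : Srch := ⟨9, m_ts, (chainBase [] c_ls), [8, 2, 0, 10, 6, 4, 10, 2, 0, 10, 6, 4, 10, 8], [8, 2, 0, 10, 6, 4, 10, 2, 0, 10, 6, 4, 10, 8], []⟩
noncomputable def cx_lk : List ℕ := [1, 2, 57, 177]
noncomputable def cx_tl : List Level := [cx_l1, cx_l2, cx_l3, cx_l4]
noncomputable def cx_R0 : ℕ := 0x100500200000000210000008440004040080400182000010800040010a0000121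
theorem cx_l0_ok : (ptsOK 9 [] && (wordsIn [0, 2, 4, 6, 8, 10] cx_l0.S && cx_l0.ok 9 m_ns m_ts [])) = true := by decide +kernel
theorem cx_l1_ok : (ptsOK 9 [0] && (wordsIn [0, 2, 4, 6, 8, 10] cx_l1.S && cx_l1.ok 9 m_ns m_ts [0])) = true := by decide +kernel
theorem cx_l2_ok : cx_l2.okT 9 m_ts [0, 2, 4, 6, 8, 10] [1, 0] (.cons [0] (.cons [2] .nil (.cons [4] (.cons [6] .nil .nil) (.cons [6] (.cons [2] (.cons [4] (.cons [2] (.cons [0] .nil .nil) .nil) .nil) (.cons [4] .nil .nil)) .nil))) (.cons [2] (.cons [4] (.cons [2] (.cons [0] .nil (.cons [6] (.cons [4] .nil .nil) .nil)) (.cons [6] (.cons [0] .nil (.cons [4] (.cons [2] .nil (.cons [6] .nil .nil)) .nil)) .nil)) (.cons [6] (.cons [4] (.cons [0] (.cons [2] .nil (.cons [6] .nil .nil)) (.cons [2] (.cons [6] (.cons [4] .nil .nil) .nil) (.cons [6] (.cons [4] (.cons [2] (.cons [0] .nil .nil) .nil) .nil) .nil))) .nil) .nil)) (.cons [4] (.cons [0]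 (.cons [2] (.cons [4] (.cons [6] (.cons [2] .nil .nil) .nil) .nil) (.cons [6] (.cons [0] .nil .nil) .nil)) (.cons [2] (.cons [0] (.cons [4] .nil .nil) .nil) .nil)) (.cons [6] (.cons [4] (.cons [0] (.cons [6] (.cons [4] .nil .nil) .nil) (.cons [2] (.cons [0] (.cons [4] .nil (.cons [6] .nil .nil)) (.cons [6] .nil .nil)) (.cons [6] .nil .nil))) .nil) .nil)))) = true := by decide +kernel
theorem cx_l3_ok : cx_l3.okT 9 m_ts [0, 2, 4, 6, 8, 10] [56, 1, 0] (.cons [0] (.cons [0] .nil (.cons [2] (.cons [0] .nil (.cons [1] (.cons [3] .nil .nil) (.cons [2] (.cons [0] .nil .nil) .nil))) (.cons [3] (.cons [0] .nil (.cons [3] .nil .nil)) .nil))) (.cons [1] (.cons [2] (.cons [1] .nil (.cons [2] .nil .nil)) (.cons [3] (.cons [0] .nil (.cons [1] .nil (.cons [3] .nil .nil))) .nil)) (.cons [2] (.cons [2] (.cons [0] (.cons [2] .nil (.cons [3] .nil .nil)) .nil) .nil) (.cons [3] (.cons [0] (.cons [2] (.cons [0]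 .nil (.cons [2] .nil .nil)) (.cons [3] (.cons [3] .nil .nil) .nil)) (.cons [1] .nil (.cons [3] (.cons [0] (.cons [2] .nil .nil) .nil) .nil))) .nil)))) = true := by decide +kernel
theorem cx_l4_ok : cx_l4.okT 9 m_ts [0, 2, 4, 6, 8, 10] [176, 56, 1, 0] (.cons [0] (.cons [2] (.cons [0] (.cons [2] (.cons [0] .nil .nil) .nil) .nil) .nil) (.cons [2] (.cons [0] (.cons [2] (.cons [0] .nil .nil) .nil) .nil) .nil)) = true := by decide +kernel
theorem cx_aux : cx_S.auxB [0, 2, 4, 6, 8, 10] cx_ls [] (0 :: cx_lk) = true := by decide +kernel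
theorem cx_cov : Nat.beq (Nat.land cx_l0.O (Srch.cover m_ns (invW cx_S.u') cx_R0 10)) cx_l0.O = true := by decide +kernel
theorem cx_r0 : cx_S.run (.cons [] (.cons [] (.cons [] (.cons [] (.cons [] (.leaf 2000) .nil) .nil) .nil) .nil) (.cons [10] (.cons [6, 4, 0, 6, 8] (.cons [6, 4, 2] (.cons [3] .nil .nil) .nil) .nil) (.cons [0, 10] (.cons [8, 0, 8, 4, 8, 2, 8] .nil .nil) (.cons [2, 10] .nil (.cons [6, 10] (.cons [2, 4, 6, 8, 2, 8] (.cons [4, 2] .nil .nil) .nil) (.cons [0, 6, 10] (.cons [4, 0, 4, 2, 8] (.cons [6, 0, 4] (.cons [0, 2, 0] .nil .nil) .nil) .nil) (.cons [2, 6, 10] (.cons [2, 0, 8, 0, 2, 8] .nil .nil) (.cons [4, 6, 10] .nil (.cons [8, 6, 10] (.cons [4, 0, 2, 8, 0, 2, 8] (.cons [2, 4, 6, 2] (.cons [1, 3] .nil .nil) .nil) .nil) (.cons [10, 6, 10] (.cons [0, 4, 0, 4, 2, 8] .nil .nil) (.cons [2, 0, 10] (.cons [0, 6, 0, 8] .nil .nil) (.cons [6, 0, 10] .nil (.cons [0, 2, 10] (.cons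 [0, 6, 0, 8] .nil .nil) (.cons [8, 2, 10] (.cons [0, 8, 0, 2, 8] .nil .nil) (.cons [10, 2, 10] (.cons [4, 0, 6, 8] .nil .nil) (.cons [0, 8, 6, 10] .nil (.cons [6, 8, 6, 10] .nil (.cons [0, 4, 2, 10] .nil (.cons [10, 4, 2, 10] .nil (.cons [8, 2, 6, 10] .nil (.cons [10, 2, 6, 10] (.cons [0, 4, 0, 2, 8] .nil .nil) (.cons [4, 0, 6, 10] .nil (.cons [10, 0, 6, 10] (.cons [0, 4, 0, 4, 2, 8] (.cons [0, 4, 6] .nil .nil) .nil) (.cons [2, 8, 2, 10] .nil (.cons [6, 4, 6, 10] (.cons [4, 6, 2, 0, 8] .nil .nil) .nil))))))))))))))))))))))))) (⟨cx_l0.b, cx_l0.S, [], cx_R0, 0⟩ :: cx_tl) (0 :: cx_lk) Pd.nil 0 = true := by decide +kernel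
theorem cx_sound {G : Type*} [Group G] {φ : G →* Equiv.Perm ℕ} {γ : ℕ → G}
    (M : Model φ γ 9 m_ns m_ts) : ChainSound φ (gp γ [0, 2, 4, 6, 8, 10]) 9 [] cx_ls :=
  ⟨Level.ok_sound' M cx_l0_ok,
   Level.ok_sound' M cx_l1_ok,
   Level.okT_sound M cx_l2_ok,
   Level.okT_sound M cx_l3_ok,
   Level.okT_sound M cx_l4_ok, trivial⟩
theorem cx_cent {G : Type*} [Group G] {φ : G →* Equiv.Perm ℕ} {γ : ℕ → G}
    (C : Cert φ γ 9 m_ns m_ts [0, 2, 4, 6, 8, 10] c_ls) : Cent γ cx_S.u cx_S.Cl 10 :=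
  have X := (C.rechain (cx_sound C.M) (by decide +kernel)).exact
  have A := Srch.auxB_sound (S := cx_S) C.M (K := ⊤) le_top rfl cx_aux
  have F := fun {tr : Tr} {R : ℕ} => Srch.found_of_run (S := cx_S) C.M C.base (by decide +kernel) X A (tr := tr) (R := R)
  Cent.of_found (S := cx_S) C.M X rfl (F cx_r0) cx_cov

end Cfsg.Agent.McLC
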